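import Cfsg.Agent.H738.SK.Transport
import Cfsg.Agent.H877.SK.Tool
import Cfsg.Agent.H838.FiveMain
import Cfsg.Agent.H839.Seven
import Cfsg.Agent.LThreeFi23.CentUuComp
import Cfsg.Agent.KFacts.FiTTh.Has

/-!
# S3010 (Sidki pairs): the row of `Fi23` (helper305)

* `2A` : `z` inverts `z j` of order 3, `C(z) ∩ C(z j) = C(z, j) ≅ O8+(3)`;
* `2B` : inverts `y5` of order 5, `C ∩ C(y5) ≅ S7`;
* `2C` : inverts `y7` of order 7, `C ∩ C(y7) ≅ S5`.
-/

set_option autoImplicit false
set_option linter.constructorNameAsVariable false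
set_option maxRecDepth 100000

universe u v w

open Subgroup Cfsg Cfsg.Agent.H282.SK

namespace Cfsg.Agent.H305.SK

section gen

/-- `O_2(S_n) = 1` -/
theorem pCore_perm {n : ℕ} (hn : 5 ≤ n) : pCore 2 (Equiv.Perm (Fin n)) = ⊥ := by
  by_contra hne
  have hN := Lib.Cores.pCore_normal (G := Equiv.Perm (Fin n)) 2
  have hp := Lib.Cores.pCore_isPGroup (G := Equiv.Perm (Fin n)) 2
  have h1 := Equiv.Perm.alternatingGroup_le_of_normal (α := Fin n) (by simpa using hn)
    ((Subgroup.nontrivial_iff_ne_bot _).mpr hne)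
  obtain ⟨σ, hσ⟩ : ∃ σ : Equiv.Perm (Fin n), σ.IsThreeCycle := by
    let a : Fin n := ⟨0, by omega⟩
    let b : Fin n := ⟨1, by omega⟩
    let c : Fin n := ⟨2, by omega⟩
    exact ⟨Equiv.swap a b * Equiv.swap a c, Equiv.Perm.isThreeCycle_swap_mul_swap_same (by simp [a, b])
      (by simp [a, c]) (by simp [b, c])⟩
  have h2 := h1 hσ.mem_alternatingGroup
  obtain ⟨k, hk⟩ := hp ⟨_, h2⟩
  have hk' : σ ^ 2 ^ k = 1 := congrArg Subtype.val hk
  have h3 := orderOf_dvd_of_pow_eq_one hk'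
  rw [hσ.orderOf] at h3
  exact absurd (Nat.Prime.dvd_of_dvd_pow (by norm_num) h3) (by norm_num)

theorem O2_of_equiv {G : Type u} [Group G] [Finite G] {H : Subgroup G} {T : Type v} [Group T] [Finite T] (e : H ≃* T)
    (h : pCore 2 T = ⊥) : O2 H = ⊥ := by
  have h1 : pCore 2 H = ⊥ := by
    rw [eq_bot_iff]
    have h2 := H738.SK.pCore_le_map e.symm
    rw [h, Subgroup.map_bot] at h2
    exact h2
  rw [O2, h1, Subgroup.map_bot]

/-- `C(y) = ⟨y⟩ S`, `v` inverts `y` and commutes with `S` : `C(v) ∩ C(y) = S` -/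
theorem inf_cent {G : Type u} [Group G] {y v : G} {S : Subgroup G} (hy : Odd (orderOf y)) (hinv : v * y * v⁻¹ = y⁻¹)
    (hS : ∀ x ∈ S, y * x = x * y) (hSv : ∀ x ∈ S, v * x = x * v)
    (hc : ∀ w, w * y = y * w → ∃ i : ℤ, ∃ x ∈ S, w = y ^ i * x) :
    centralizer ({v} : Set G) ⊓ centralizer ({y} : Set G) = S := by
  apply le_antisymm
  · rintro w ⟨h1, h2⟩
    replace h1 : w * v = v * w := mem_centralizer_singleton_iff.1 h1
    replace h2 : w * y = y * w := mem_centralizer_singleton_iff.1 h2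
    obtain ⟨i, x, hx, rfl⟩ := hc w h2
    have h3 : v * y ^ i * v⁻¹ = y ^ i := by
      have h4 : v * (y ^ i * x) = (y ^ i * x) * v := h1.symm
      calc v * y ^ i * v⁻¹ = v * (y ^ i * x) * x⁻¹ * v⁻¹ := by group
        _ = (y ^ i * x) * v * x⁻¹ * v⁻¹ := by rw [h4]
        _ = y ^ i * (x * v) * x⁻¹ * v⁻¹ := by group
        _ = y ^ i * (v * x) * x⁻¹ * v⁻¹ := by rw [hSv x hx]
        _ = y ^ i := by group
    rw [← conj_zpow, hinv, inv_zpow] at h3
    have h5 : (y ^ i) ^ 2 = 1 := by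
      rw [pow_two]
      nth_rewrite 1 [← h3]
      group
    have h6 : orderOf (y ^ i) ∣ 2 := orderOf_dvd_of_pow_eq_one h5
    have h7 : orderOf (y ^ i) ∣ orderOf y := orderOf_dvd_of_mem_zpowers ⟨i, rfl⟩
    have h8 : orderOf (y ^ i) = 1 := by
      rcases (Nat.dvd_prime Nat.prime_two).1 h6 with h8 | h8
      · exact h8
      · exfalso
        rw [h8] at h7
        exact (Nat.not_even_iff_odd.2 hy) (even_iff_two_dvd.2 h7)
    rw [orderOf_eq_one_iff.1 h8, one_mul]
    exact hx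
  · intro x hx
    exact ⟨mem_centralizer_singleton_iff.2 (hSv x hx).symm, mem_centralizer_singleton_iff.2 (hS x hx).symm⟩

end gen

namespace Fi23

open Cfsg.Agent.LThreeFi23 Cfsg.Agent.H838.Fi23 Cfsg.Agent.Fischer.Fi23Hom Cfsg.Agent.Fischer.Fi23Z
open Cfsg.Spor (Fi23)
open Cfsg.Agent.H738.SK

/-! ### Words -/

def v5 : List Lt := [.f, .z, .g, .f]
def v7 : List Lt := [.i, .a, .b, .a, .c, .h, .b, .a, .i]
def t5 : List Lt := [.b, .c, .d, .e, .f, .g, .a, .b, .c, .d, .e, .f, .f]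
def t7 : List Lt := [.d, .h, .i, .c, .d, .h, .j, .z, .g, .j, .f, .g, .e, .f, .d, .e, .c, .d, .h, .i, .b, .a, .i]

theorem c_v5 : agree (v5 ++ y5) (y5.reverse ++ v5) [11589, 8004, 8003, 8000, 8002, 8005, 7999, 8007, 8006, 0] = true := by
  decide +kernel

theorem c_v7 : agree (v7 ++ y7) (y7.reverse ++ v7) [11589, 8004, 8003, 8000, 8002, 8005, 7999, 8007, 8006, 0] = true := by
  decide +kernel

theorem c_t5 : agree (t5 ++ v5) ([.z, .a] ++ t5) [11589, 8004, 8003, 8000, 8002, 8005, 7999, 8007, 8006, 0] = true := by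
  decide +kernel

theorem c_t7 : agree (t7 ++ v7) ([.z, .a, .c] ++ t7) [11589, 8004, 8003, 8000, 8002, 8005, 7999, 8007, 8006, 0] = true := by
  decide +kernel

theorem inv5 : elw v5 * elw y5 * (elw v5)⁻¹ = (elw y5)⁻¹ := by
  have h := elw_eq_of_agree c_v5
  rw [elw_append, elw_append, elw_reverse] at h
  rw [h, mul_inv_cancel_right]

theorem inv7 : elw v7 * elw y7 * (elw v7)⁻¹ = (elw y7)⁻¹ := by
  have h := elw_eq_of_agree c_v7
  rw [elw_append, elw_append, elw_reverse] at h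
  rw [h, mul_inv_cancel_right]

theorem conj5 : IsConj (elw v5) (elw [.z, .a]) := by
  rw [isConj_iff]
  have h := elw_eq_of_agree c_t5
  rw [elw_append, elw_append] at h
  exact ⟨elw t5, by rw [h, mul_inv_cancel_right]⟩

theorem conj7 : IsConj (elw v7) (elw [.z, .a, .c]) := by
  rw [isConj_iff]
  have h := elw_eq_of_agree c_t7
  rw [elw_append, elw_append] at h
  exact ⟨elw t7, by rw [h, mul_inv_cancel_right]⟩

theorem ord5 : orderOf (elw y5) = 5 := by
  have : Fact (Nat.Prime 5) := ⟨by norm_num⟩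
  exact orderOf_eq_prime pow5 y5_ne

theorem ord7 : orderOf (elw y7) = 7 := by
  have : Fact (Nat.Prime 7) := ⟨by norm_num⟩
  exact orderOf_eq_prime pow7 y7_ne

theorem ne_one_of_inv {G : Type u} [Group G] {v x : G} (hx : Odd (orderOf x)) (hx1 : x ≠ 1) (h : v * x * v⁻¹ = x⁻¹) :
    v ≠ 1 := by
  rintro rfl
  rw [one_mul, inv_one, mul_one] at h
  have h1 : x ^ 2 = 1 := by
    rw [pow_two]
    nth_rewrite 1 [h]
    group
  have h2 : orderOf x ∣ 2 := orderOf_dvd_of_pow_eq_one h1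
  rcases (Nat.dvd_prime Nat.prime_two).1 h2 with h3 | h3
  · exact hx1 (orderOf_eq_one_iff.1 h3)
  · rw [h3] at hx
    exact absurd hx (by decide)

/-! ### The classes -/


/-- `2A` -/
theorem dead_A {K : Subgroup Fi23} : Dead K z0 := by
  have : Finite Fi23 := LThreeFi23.finG
  have hz : el .z = z0 := rfl
  have hinv : el .z * uu * (el .z)⁻¹ = uu⁻¹ := by
    unfold uu
    rw [mul_inv_rev, el_inv, el_inv, ← mul_assoc, el_sq, one_mul]
  have hcc : centralizer ({el .z} : Set Fi23) ⊓ centralizer ({uu} : Set Fi23) = CC := by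
    apply le_antisymm
    · rintro w ⟨h1, h2⟩
      replace h1 : w * el .z = el .z * w := mem_centralizer_singleton_iff.1 h1
      replace h2 : w * uu = uu * w := mem_centralizer_singleton_iff.1 h2
      refine mem_CC.2 ⟨h1, ?_⟩
      have h3 : el .j = el .z * uu := by
        unfold uu
        rw [← mul_assoc, el_sq, one_mul]
      rw [h3]
      exact ((show Commute w (el .z) from h1).mul_right (show Commute w uu from h2)).eq
    · intro w hw
      exact ⟨mem_centralizer_singleton_iff.2 (mem_CC.1 hw).1, CC_le hw⟩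
  have hodd : Odd (orderOf uu) := by rw [order_uu]; decide
  rw [← hz]
  refine Dead.of_O2 ?_ hodd hinv ?_
  · refine ne_one_of_inv hodd ?_ hinv
    intro h
    have := order_uu
    rw [h, orderOf_one] at this
    exact absurd this (by norm_num)
  · rw [hcc]
    refine H877.SK.O2_eq_bot simple_CC ?_ ⟨MulEquiv.refl _⟩
    intro hp
    obtain ⟨k, hk⟩ := IsPGroup.iff_card.1 hp
    rw [card_CC] at hk
    have h3 : 3 ∣ 2 ^ k := by rw [← hk]; norm_num
    exact absurd (Nat.Prime.dvd_of_dvd_pow (by norm_num) h3) (by norm_num)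

/-- `2B` -/
theorem dead_B {K : Subgroup Fi23} : Dead K (elw v5) := by
  have : Finite Fi23 := LThreeFi23.finG
  have hodd : Odd (orderOf (elw y5)) := by rw [ord5]; decide
  refine Dead.of_O2 (ne_one_of_inv hodd y5_ne inv5) hodd inv5 ?_
  rw [inf_cent hodd inv5 (fun x hx => S7_comm_y5 hx) (fun x hx => S7_comm_word (by decide +kernel) hx)
    (fun w hw => cent5 hw)]
  obtain ⟨f, -, hf, hinj⟩ := exists_S7
  rw [← hf]
  exact O2_of_equiv (MonoidHom.ofInjective hinj).symm (pCore_perm (by norm_num))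

/-- `2C` -/
theorem dead_C {K : Subgroup Fi23} : Dead K (elw v7) := by
  have : Finite Fi23 := LThreeFi23.finG
  have hodd : Odd (orderOf (elw y7)) := by rw [ord7]; decide
  refine Dead.of_O2 (ne_one_of_inv hodd y7_ne inv7) hodd inv7 ?_
  rw [inf_cent hodd inv7 (fun x hx => H839.Fi23.S5_comm_y7 hx)
    (fun x hx => H839.Fi23.SL_comm_word (by decide +kernel) hx) (fun w hw => H839.Fi23.cent7 hw)]
  obtain ⟨f, -, hf, hinj⟩ := H839.Fi23.exists_S5
  rw [← hf]
  exact O2_of_equiv (MonoidHom.ofInjective hinj).symm (pCore_perm (by norm_num))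

theorem elw_za : elw [.z, .a] = z0 * gen .a := by
  rw [elw_cons, elw_cons, elw_nil, mul_one]
  rfl

theorem elw_zac : elw [.z, .a, .c] = z0 * gen .a * gen .c := by
  rw [elw_cons, elw_cons, elw_cons, elw_nil, mul_one, ← mul_assoc]
  rfl

/-- **The row `Fi23`.** -/
theorem dead : DeadS.{u} (fun K _ => Cfsg.Spor.IsoFi23 K) := by
  have : Finite Fi23 := LThreeFi23.finG
  refine @H738.SK.deadS_of_inner Fi23 _ _ (fun K _ => Cfsg.Spor.IsoFi23 K) (fun K _ h => h) KFacts.FiTTh.Has.inn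
    (fun V h => ?_)
  refine @H738.SK.false_of_dead Fi23 _ _ V ⊤ h (fun t ht ht1 => ?_)
  rcases KFacts.FiTTh.Has.inv t ht ht1 with h1 | h1 | h1
  · exact dead_A.of_isConj h1.symm
  · rw [← elw_za] at h1
    exact dead_B.of_isConj (conj5.trans h1.symm)
  · rw [← elw_zac] at h1
    exact dead_C.of_isConj (conj7.trans h1.symm)

end Fi23

end Cfsg.Agent.H305.SK
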